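import Mathlib

/-!
A computational model of the field with eight elements.
-/

namespace CfsgLib.Recognition.SzGraph

/-- The field with eight elements; bit patterns of polynomials modulo `x³ + x + 1`. -/
structure F8 where
  v : Fin 8
deriving DecidableEq

namespace F8

/-- The multiplication table, three bits per entry. -/
def mulTable : ℕ :=
  0x73157889d3f0cfa868356ee0467b98bcbd10fac688000000

/-- The inverse table. -/
def invTable : ℕ := 0x8d7d48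

/-- An element from its bit pattern. -/
def ofN (n : ℕ) : F8 := ⟨Fin.ofNat 8 n⟩

instance : Zero F8 := ⟨⟨0⟩⟩
instance : One F8 := ⟨⟨1⟩⟩
instance : Add F8 := ⟨fun a b => ofN (a.v.val ^^^ b.v.val)⟩
instance : Neg F8 := ⟨fun a => a⟩
instance : Mul F8 := ⟨fun a b => ofN (mulTable >>> (3 * (8 * a.v.val + b.v.val)))⟩
instance : Inv F8 := ⟨fun a => ofN (invTable >>> (3 * a.v.val))⟩

theorem forall_iff {P : F8 → Prop} : (∀ a, P a) ↔ ∀ i : Fin 8, P ⟨i⟩ :=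
  ⟨fun h i => h _, fun h a => h a.v⟩

theorem exists_iff {P : F8 → Prop} : (∃ a, P a) ↔ ∃ i : Fin 8, P ⟨i⟩ :=
  ⟨fun ⟨a, h⟩ => ⟨a.v, h⟩, fun ⟨i, h⟩ => ⟨⟨i⟩, h⟩⟩

theorem add_assoc' : ∀ a b c : Fin 8, (⟨a⟩ : F8) + ⟨b⟩ + ⟨c⟩ = ⟨a⟩ + (⟨b⟩ + ⟨c⟩) := by decide +kernel
theorem zero_add' : ∀ a : Fin 8, 0 + (⟨a⟩ : F8) = ⟨a⟩ := by decide +kernel
theorem add_zero' : ∀ a : Fin 8, (⟨a⟩ : F8) + 0 = ⟨a⟩ := by decide +kernel
theorem neg_add' : ∀ a : Fin 8, -(⟨a⟩ : F8) + ⟨a⟩ = 0 := by decide +kernel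
theorem add_comm' : ∀ a b : Fin 8, (⟨a⟩ : F8) + ⟨b⟩ = ⟨b⟩ + ⟨a⟩ := by decide +kernel
theorem mul_assoc' : ∀ a b c : Fin 8, (⟨a⟩ : F8) * ⟨b⟩ * ⟨c⟩ = ⟨a⟩ * (⟨b⟩ * ⟨c⟩) := by decide +kernel
theorem mul_comm' : ∀ a b : Fin 8, (⟨a⟩ : F8) * ⟨b⟩ = ⟨b⟩ * ⟨a⟩ := by decide +kernel
theorem left_distrib' : ∀ a b c : Fin 8, (⟨a⟩ : F8) * (⟨b⟩ + ⟨c⟩) = ⟨a⟩ * ⟨b⟩ + ⟨a⟩ * ⟨c⟩ := by decide +kernel
theorem one_mul' : ∀ a : Fin 8, 1 * (⟨a⟩ : F8) = ⟨a⟩ := by decide +kernel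
theorem zero_mul' : ∀ a : Fin 8, 0 * (⟨a⟩ : F8) = 0 := by decide +kernel
theorem mul_inv' : ∀ a : Fin 8, (⟨a⟩ : F8) ≠ 0 → (⟨a⟩ : F8) * (⟨a⟩ : F8)⁻¹ = 1 := by decide +kernel

instance : CommRing F8 where
  add_assoc a b c := add_assoc' a.v b.v c.v
  zero_add a := zero_add' a.v
  add_zero a := add_zero' a.v
  add_comm a b := add_comm' a.v b.v
  neg_add_cancel a := neg_add' a.v
  nsmul := nsmulRec
  zsmul := zsmulRec
  left_distrib a b c := left_distrib' a.v b.v c.v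
  right_distrib a b c := by
    show (a + b) * c = a * c + b * c
    rw [show (a + b) * c = c * (a + b) from mul_comm' _ c.v, show a * c = c * a from mul_comm' _ c.v,
      show b * c = c * b from mul_comm' _ c.v]
    exact left_distrib' c.v a.v b.v
  zero_mul a := zero_mul' a.v
  mul_zero a := (mul_comm' a.v 0).trans (zero_mul' a.v)
  mul_assoc a b c := mul_assoc' a.v b.v c.v
  one_mul a := one_mul' a.v
  mul_one a := (mul_comm' a.v 1).trans (one_mul' a.v)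
  mul_comm a b := mul_comm' a.v b.v

instance : Field F8 where
  exists_pair_ne := ⟨0, 1, by decide⟩
  mul_inv_cancel a ha := mul_inv' a.v ha
  inv_zero := by decide
  nnqsmul := _
  nnqsmul_def := fun _ _ => rfl
  qsmul := _
  qsmul_def := fun _ _ => rfl

/-- Its elements. -/
def equivFin : F8 ≃ Fin 8 where
  toFun a := a.v
  invFun i := ⟨i⟩

instance : Fintype F8 := Fintype.ofEquiv _ equivFin.symm

theorem card_eq : Fintype.card F8 = 8 := by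
  rw [Fintype.card_congr equivFin, Fintype.card_fin]

end F8

end CfsgLib.Recognition.SzGraph
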