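import Mathlib
import Cfsg.Agent.Lib.SuzukiGroup.Tori
import Cfsg.Agent.Lib.Recognition.SzGraph.FieldEight

/-!
Explicit elements of Sz(8) and the certificates about them.
-/

open scoped MatrixGroups Matrix

namespace CfsgLib.Recognition.SzGraph

open CfsgLib.SuzukiGroup Matrix

/-- The Suzuki group over the model field. -/
abbrev SzEight : Subgroup (GL (Fin 4) F8) := Cfsg.Lie.Sz F8 (2 ^ (1 + 1))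

/-- The action matrix of `g` on `4 × 4` matrices, twisted by squaring. -/
def twistMat (A : Matrix (Fin 4) (Fin 4) F8) : Matrix (Fin 4 × Fin 4) (Fin 4 × Fin 4) F8 :=
  Matrix.of fun i j => A i.1 j.1 * (A i.2 j.2 * A i.2 j.2)

/-- An element of Sz(8). -/
def fiveMat : GL (Fin 4) F8 :=
  ⟨!![⟨0⟩, ⟨0⟩, ⟨0⟩, ⟨1⟩; ⟨0⟩, ⟨0⟩, ⟨1⟩, ⟨0⟩; ⟨0⟩, ⟨1⟩, ⟨0⟩, ⟨1⟩; ⟨1⟩, ⟨0⟩, ⟨1⟩, ⟨1⟩],
    !![⟨1⟩, ⟨1⟩, ⟨0⟩, ⟨1⟩; ⟨1⟩, ⟨0⟩, ⟨1⟩, ⟨0⟩; ⟨0⟩, ⟨1⟩, ⟨0⟩, ⟨0⟩; ⟨1⟩, ⟨0⟩, ⟨0⟩, ⟨0⟩],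
    by decide +kernel, by decide +kernel⟩

/-- An element of Sz(8). -/
def sevenMat : GL (Fin 4) F8 :=
  ⟨!![⟨0⟩, ⟨0⟩, ⟨0⟩, ⟨1⟩; ⟨0⟩, ⟨0⟩, ⟨1⟩, ⟨0⟩; ⟨0⟩, ⟨1⟩, ⟨0⟩, ⟨2⟩; ⟨1⟩, ⟨0⟩, ⟨2⟩, ⟨6⟩],
    !![⟨6⟩, ⟨2⟩, ⟨0⟩, ⟨1⟩; ⟨2⟩, ⟨0⟩, ⟨1⟩, ⟨0⟩; ⟨0⟩, ⟨1⟩, ⟨0⟩, ⟨0⟩; ⟨1⟩, ⟨0⟩, ⟨0⟩, ⟨0⟩],
    by decide +kernel, by decide +kernel⟩

/-- An element of Sz(8). -/
def thirteenMat : GL (Fin 4) F8 :=
  ⟨!![⟨0⟩, ⟨0⟩, ⟨0⟩, ⟨1⟩; ⟨0⟩, ⟨0⟩, ⟨1⟩, ⟨0⟩; ⟨0⟩, ⟨1⟩, ⟨0⟩, ⟨3⟩; ⟨1⟩, ⟨0⟩, ⟨3⟩, ⟨7⟩],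
    !![⟨7⟩, ⟨3⟩, ⟨0⟩, ⟨1⟩; ⟨3⟩, ⟨0⟩, ⟨1⟩, ⟨0⟩; ⟨0⟩, ⟨1⟩, ⟨0⟩, ⟨0⟩; ⟨1⟩, ⟨0⟩, ⟨0⟩, ⟨0⟩],
    by decide +kernel, by decide +kernel⟩

/-- A fixed vector of `fiveMat`. -/
def fiveFix : Matrix (Fin 4) (Fin 4) F8 := !![⟨0⟩, ⟨0⟩, ⟨0⟩, ⟨1⟩; ⟨0⟩, ⟨0⟩, ⟨1⟩, ⟨0⟩; ⟨0⟩, ⟨1⟩, ⟨0⟩, ⟨0⟩; ⟨1⟩, ⟨0⟩, ⟨0⟩, ⟨0⟩]

/-- A fixed vector of `sevenMat`. -/
def sevenFix : Matrix (Fin 4) (Fin 4) F8 := !![⟨0⟩, ⟨0⟩, ⟨1⟩, ⟨6⟩; ⟨0⟩, ⟨0⟩, ⟨4⟩, ⟨5⟩; ⟨5⟩, ⟨4⟩, ⟨0⟩, ⟨0⟩; ⟨6⟩, ⟨1⟩, ⟨0⟩, ⟨0⟩]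

/-- Rows of an inverse, three bits per entry. -/
def invRows : List ℕ := [1444182493825, 1237486142600, 79228202253842, 184785609423317, 4329805979584, 2131032837824, 259515888352671, 277114515999167, 280688242835519, 263227305013279, 2131032805056, 4329805975488, 188978359955477, 80259886215186, 1237486142592, 1444182493824]

/-- The inverse of `twistMat thirteenMat - 1`. -/
def invThirteen : Matrix (Fin 4 × Fin 4) (Fin 4 × Fin 4) F8 :=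
  Matrix.of fun i j => F8.ofN (invRows.getD (4 * i.1.val + i.2.val) 0 >>> (3 * (4 * j.1.val + j.2.val)))

theorem invThirteen_cert :
    invThirteen * (twistMat (thirteenMat : Matrix (Fin 4) (Fin 4) F8) - 1) = 1 := by
  decide +kernel

/-- The defining equations, decidably. -/
def SzEq (A : Matrix (Fin 4) (Fin 4) F8) : Prop :=
  (∀ i j : Fin 4, Cfsg.Lie.altForm4 (fun k => A k i) (fun k => A k j) = if i.val + j.val = 3 then 1 else 0) ∧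
    Cfsg.Lie.star4 A = A.map fun x => x ^ 4

instance : DecidablePred SzEq := fun A => by unfold SzEq; infer_instance

theorem mem_of_szEq {g : GL (Fin 4) F8} (h : SzEq (g : Matrix (Fin 4) (Fin 4) F8)) : g ∈ SzEight := by
  obtain ⟨hc, ⟨P⟩⟩ := exists_params (F := F8) (m := 1) F8.card_eq
  haveI := hc
  refine (mem_iff P g).2 ⟨h.1, ?_⟩
  rw [h.2]
  exact congrArg _ (funext fun x => (P.pow_eq x).symm)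

/-- An element of order five. -/
def five : SzEight := ⟨fiveMat, mem_of_szEq (by decide +kernel)⟩
/-- An element of order seven. -/
def seven : SzEight := ⟨sevenMat, mem_of_szEq (by decide +kernel)⟩
/-- An element of order thirteen. -/
def thirteen : SzEight := ⟨thirteenMat, mem_of_szEq (by decide +kernel)⟩
/-- An involution. -/
def two : SzEight :=
  ⟨⟨!![0, 0, 0, 1; 0, 0, 1, 0; 0, 1, 0, 0; 1, 0, 0, 0], !![0, 0, 0, 1; 0, 0, 1, 0; 0, 1, 0, 0; 1, 0, 0, 0],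
    by decide +kernel, by decide +kernel⟩, mem_of_szEq (by decide +kernel)⟩

theorem five_pow : fiveMat ^ 5 = 1 ∧ fiveMat ≠ 1 := by decide +kernel
theorem seven_pow : sevenMat ^ 7 = 1 ∧ sevenMat ≠ 1 := by decide +kernel
theorem thirteen_pow : thirteenMat ^ 13 = 1 ∧ thirteenMat ≠ 1 := by decide +kernel
theorem two_pow : (two : GL (Fin 4) F8) ^ 2 = 1 ∧ (two : GL (Fin 4) F8) ≠ 1 := by decide +kernel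

theorem five_fix :
    fiveFix ≠ 0 ∧ (fiveMat : Matrix (Fin 4) (Fin 4) F8) * fiveFix *
      ((fiveMat : Matrix (Fin 4) (Fin 4) F8).map fun x => x * x)ᵀ = fiveFix := by
  decide +kernel

theorem seven_fix :
    sevenFix ≠ 0 ∧ (sevenMat : Matrix (Fin 4) (Fin 4) F8) * sevenFix *
      ((sevenMat : Matrix (Fin 4) (Fin 4) F8).map fun x => x * x)ᵀ = sevenFix := by
  decide +kernel

theorem five_real :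
    (fiveMat : Matrix (Fin 4) (Fin 4) F8).map (fun x => x * x) = (fiveMat : Matrix (Fin 4) (Fin 4) F8) := by
  decide +kernel

theorem two_real :
    ((two : GL (Fin 4) F8) : Matrix (Fin 4) (Fin 4) F8).map (fun x => x * x) =
      ((two : GL (Fin 4) F8) : Matrix (Fin 4) (Fin 4) F8) := by
  decide +kernel

theorem seven_trace : ∀ n : Fin 7, n ≠ 0 →
    ((sevenMat ^ (n : ℕ) : GL (Fin 4) F8) : Matrix (Fin 4) (Fin 4) F8).trace ≠ 0 ∧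
      ((sevenMat ^ (n : ℕ) : GL (Fin 4) F8) : Matrix (Fin 4) (Fin 4) F8).trace ≠ 1 := by
  decide +kernel

theorem thirteen_trace : ∀ n : Fin 13, n ≠ 0 →
    ((thirteenMat ^ (n : ℕ) : GL (Fin 4) F8) : Matrix (Fin 4) (Fin 4) F8).trace ≠ 0 ∧
      ((thirteenMat ^ (n : ℕ) : GL (Fin 4) F8) : Matrix (Fin 4) (Fin 4) F8).trace ≠ 1 := by
  decide +kernel

end CfsgLib.Recognition.SzGraph
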