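import Mathlib
import Cfsg.Agent.Lib.Recognition.SzGraph.Elements

/-!
`Sz(8)` extended by its field automorphisms.
-/

open scoped MatrixGroups Matrix

namespace CfsgLib.Recognition.SzGraph

open CfsgLib.SuzukiGroup Matrix

/-- Squaring. -/
def frob : F8 →+* F8 where
  toFun x := x * x
  map_one' := by decide
  map_zero' := by decide
  map_mul' := fun a b => by
    show a * b * (a * b) = a * a * (b * b)
    ring
  map_add' := by
    have h : ∀ i j : Fin 8, ((⟨i⟩ : F8) + ⟨j⟩) * (⟨i⟩ + ⟨j⟩) = (⟨i⟩ : F8) * ⟨i⟩ + (⟨j⟩ : F8) * ⟨j⟩ := by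
      decide +kernel
    exact fun a b => h a.v b.v

theorem frob_apply (x : F8) : frob x = x * x := rfl

theorem frob_three : ∀ x : F8, frob (frob (frob x)) = x := by
  have h : ∀ i : Fin 8, frob (frob (frob ⟨i⟩)) = ⟨i⟩ := by decide +kernel
  exact fun x => h x.v

theorem trivial_of_frob_fixed : ∀ x : F8, (frob x = x ∨ frob (frob x) = x) → x = 0 ∨ x = 1 := by
  have h : ∀ i : Fin 8, (frob ⟨i⟩ = ⟨i⟩ ∨ frob (frob ⟨i⟩) = ⟨i⟩) → (⟨i⟩ : F8) = 0 ∨ (⟨i⟩ : F8) = 1 := by
    decide +kernel
  exact fun x => h x.v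

/-- The Frobenius endomorphism of the general linear group. -/
def frobGL : GL (Fin 4) F8 →* GL (Fin 4) F8 := Units.map frob.mapMatrix.toMonoidHom

theorem frobGL_val (g : GL (Fin 4) F8) :
    (frobGL g : Matrix (Fin 4) (Fin 4) F8) = (g : Matrix (Fin 4) (Fin 4) F8).map frob := rfl

theorem frobGL_three (g : GL (Fin 4) F8) : frobGL (frobGL (frobGL g)) = g := by
  apply Units.ext
  simp only [frobGL_val]
  exact Matrix.ext fun i j => frob_three _

theorem frobGL_mem {g : GL (Fin 4) F8} (hg : g ∈ SzEight) : frobGL g ∈ SzEight := by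
  obtain ⟨hc, ⟨P⟩⟩ := exists_params (F := F8) (m := 1) F8.card_eq
  haveI := hc
  obtain ⟨h1, h2⟩ := (mem_iff P g).1 hg
  refine (mem_iff P _).2 ⟨fun i j => ?_, Matrix.ext fun i j => ?_⟩
  · have h := congrArg frob (h1 i j)
    simp only [Cfsg.Lie.altForm4, map_add, map_mul, apply_ite frob, map_one, map_zero] at h
    exact h
  · have h := congrArg frob (congrFun (congrFun h2 i) j)
    simp only [Cfsg.Lie.star4, Matrix.of_apply, Matrix.map_apply, map_sub, map_mul] at h
    simp only [Cfsg.Lie.star4, Matrix.of_apply, Matrix.map_apply, frobGL_val]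
    rw [h, P.pow_eq, P.pow_eq, map_pow]

/-- The Frobenius automorphism of Sz(8). -/
def frobSz : MulAut SzEight where
  toFun g := ⟨frobGL g, frobGL_mem g.2⟩
  invFun g := ⟨frobGL (frobGL g), frobGL_mem (frobGL_mem g.2)⟩
  left_inv g := Subtype.ext (frobGL_three g)
  right_inv g := Subtype.ext (frobGL_three g)
  map_mul' g h := Subtype.ext (map_mul frobGL _ _)

theorem frobSz_coe (g : SzEight) : ((frobSz g : SzEight) : GL (Fin 4) F8) = frobGL g := rfl

theorem frobSz_cube : frobSz ^ 3 = 1 := MulEquiv.ext fun g => Subtype.ext (frobGL_three g)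

/-- The action of the cyclic group of order three. -/
def galAct : Multiplicative (ZMod 3) →* MulAut SzEight where
  toFun k := frobSz ^ k.toAdd.val
  map_one' := by simp
  map_mul' i j := by
    rw [← pow_add, toAdd_mul, ZMod.val_add, pow_eq_pow_mod (i.toAdd.val + j.toAdd.val) frobSz_cube]

/-- The extension by the field automorphisms. -/
abbrev SzGal := SzEight ⋊[galAct] Multiplicative (ZMod 3)

instance : Finite SzEight := inferInstance

instance : Finite SzGal := Finite.of_equiv _ (SemidirectProduct.equivProd (φ := galAct)).symm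

theorem card_szEight : Nat.card SzEight = 29120 := by
  obtain ⟨hc, ⟨P⟩⟩ := exists_params (F := F8) (m := 1) F8.card_eq
  haveI := hc
  rw [card_sz P, F8.card_eq]; norm_num

theorem card_szGal : Nat.card SzGal = 87360 := by
  rw [SemidirectProduct.card, card_szEight]; simp

/-- Orders of elements of Sz(8). -/
theorem orderOf_szEight (g : SzEight) :
    orderOf g ∣ 4 ∨ orderOf g = 5 ∨ orderOf g = 7 ∨ orderOf g = 13 := by
  by_cases h1 : g = 1
  · left; rw [h1, orderOf_one]; exact one_dvd _
  obtain ⟨hc, ⟨P⟩⟩ := exists_params (F := F8) (m := 1) F8.card_eq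
  haveI := hc
  rcases element_cases P F8.card_eq le_rfl h1 with h | ⟨-, h⟩
  · exact Or.inl h
  · have hd : orderOf g ∣ Nat.card ↥(Subgroup.centralizer {g}) :=
      Subgroup.orderOf_dvd_natCard _ (Subgroup.mem_centralizer_singleton_iff.2 (rfl : g * g = g * g))
    have hne : orderOf g ≠ 1 := fun e => h1 (orderOf_eq_one_iff.1 e)
    rcases h with h | h | h <;> rw [h] at hd
    · rw [F8.card_eq] at hd
      exact Or.inr (Or.inr (Or.inl (((Nat.dvd_prime (by norm_num)).1 hd).resolve_left hne)))
    · exact Or.inr (Or.inr (Or.inr (((Nat.dvd_prime (by norm_num [toA])).1 hd).resolve_left hne)))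
    · exact Or.inr (Or.inl (((Nat.dvd_prime (by norm_num [toB])).1 hd).resolve_left hne))

/-- Elements of a prime order `p` dividing the group order once are conjugate to powers of any one of them. -/
theorem exists_conj_pow {G : Type*} [Group G] [Finite G] {p : ℕ} (hp : p.Prime)
    (hf : (Nat.card G).factorization p = 1) {w y : G} (hw : orderOf w = p) (hy : orderOf y = p) :
    ∃ (u : G) (n : Fin p), n.val ≠ 0 ∧ y = u * w ^ (n : ℕ) * u⁻¹ := by
  haveI : Fact p.Prime := ⟨hp⟩
  have hc : ∀ x : G, orderOf x = p → Nat.card (Subgroup.zpowers x) = p ^ (Nat.card G).factorization p :=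
    fun x hx => by rw [Nat.card_zpowers, hx, hf, pow_one]
  let P := Sylow.ofCard _ (hc w hw)
  let Q := Sylow.ofCard _ (hc y hy)
  obtain ⟨u, hu⟩ := MulAction.exists_smul_eq G P Q
  have hmem : y ∈ (Q : Subgroup G) := Subgroup.mem_zpowers y
  rw [← hu, Sylow.coe_subgroup_smul, Subgroup.mem_pointwise_smul_iff_inv_smul_mem] at hmem
  have hmem' : u⁻¹ * y * u ∈ Subgroup.zpowers w := by simpa [MulAut.smul_def, P] using hmem
  obtain ⟨k, hk⟩ := Subgroup.mem_zpowers_iff.1 hmem'
  have hp0 : (p : ℤ) ≠ 0 := by exact_mod_cast hp.ne_zero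
  refine ⟨u, ⟨(k % p).toNat, ?_⟩, ?_, ?_⟩
  · have := Int.emod_lt_of_pos k (by exact_mod_cast hp.pos : (0 : ℤ) < p)
    have := Int.emod_nonneg k hp0
    omega
  all_goals
    have hpow : w ^ ((k % p).toNat) = w ^ k := by
      rw [← zpow_natCast, Int.toNat_of_nonneg (Int.emod_nonneg k hp0)]
      exact (zpow_eq_zpow_emod' k (hw ▸ pow_orderOf_eq_one w)).symm
  · intro h0
    simp only at h0
    rw [h0, pow_zero, hk] at hpow
    have : y = 1 := by
      have := congrArg (fun z => u * z * u⁻¹) hpow.symm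
      simpa [mul_assoc] using this
    rw [this, orderOf_one] at hy
    exact hp.one_lt.ne hy
  · simp only
    rw [hpow, hk]; group

theorem trace_conj (u g : SzEight) :
    (((u * g * u⁻¹ : SzEight) : GL (Fin 4) F8) : Matrix (Fin 4) (Fin 4) F8).trace =
      ((g : GL (Fin 4) F8) : Matrix (Fin 4) (Fin 4) F8).trace := by
  simp only [Subgroup.coe_mul, Subgroup.coe_inv, Units.val_mul]
  rw [Matrix.trace_mul_cycle, Units.inv_mul, Matrix.one_mul]

theorem orderOf_seven : orderOf seven = 7 := by
  haveI : Fact (Nat.Prime 7) := ⟨by norm_num⟩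
  rw [← orderOf_injective SzEight.subtype Subtype.val_injective]
  exact orderOf_eq_prime seven_pow.1 seven_pow.2

theorem orderOf_thirteen : orderOf thirteen = 13 := by
  haveI : Fact (Nat.Prime 13) := ⟨by norm_num⟩
  rw [← orderOf_injective SzEight.subtype Subtype.val_injective]
  exact orderOf_eq_prime thirteen_pow.1 thirteen_pow.2

theorem orderOf_five : orderOf five = 5 := by
  haveI : Fact (Nat.Prime 5) := ⟨by norm_num⟩
  rw [← orderOf_injective SzEight.subtype Subtype.val_injective]
  exact orderOf_eq_prime five_pow.1 five_pow.2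

theorem orderOf_two : orderOf two = 2 := by
  haveI : Fact (Nat.Prime 2) := ⟨Nat.prime_two⟩
  rw [← orderOf_injective SzEight.subtype Subtype.val_injective]
  exact orderOf_eq_prime two_pow.1 two_pow.2

theorem factorization_seven : (29120 : ℕ).factorization 7 = 1 := by
  rw [show (29120 : ℕ) = 7 * 4160 by norm_num, Nat.factorization_mul (by norm_num) (by norm_num),
    Finsupp.add_apply, Nat.Prime.factorization_self (by norm_num),
    Nat.factorization_eq_zero_of_not_dvd (by norm_num)]

theorem factorization_thirteen : (29120 : ℕ).factorization 13 = 1 := by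
  rw [show (29120 : ℕ) = 13 * 2240 by norm_num, Nat.factorization_mul (by norm_num) (by norm_num),
    Finsupp.add_apply, Nat.Prime.factorization_self (by norm_num),
    Nat.factorization_eq_zero_of_not_dvd (by norm_num)]

/-- Traces of elements of order 7 or 13 lie outside the prime field. -/
theorem trace_ne (g : SzEight) (hg : orderOf g = 7 ∨ orderOf g = 13) :
    ((g : GL (Fin 4) F8) : Matrix (Fin 4) (Fin 4) F8).trace ≠ 0 ∧
      ((g : GL (Fin 4) F8) : Matrix (Fin 4) (Fin 4) F8).trace ≠ 1 := by
  rcases hg with hg | hg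
  · obtain ⟨u, n, hn, rfl⟩ := exists_conj_pow (by norm_num) (card_szEight ▸ factorization_seven) orderOf_seven hg
    rw [trace_conj, SubgroupClass.coe_pow]
    exact seven_trace n fun e => hn (by rw [e]; rfl)
  · obtain ⟨u, n, hn, rfl⟩ := exists_conj_pow (by norm_num) (card_szEight ▸ factorization_thirteen) orderOf_thirteen hg
    rw [trace_conj, SubgroupClass.coe_pow]
    exact thirteen_trace n fun e => hn (by rw [e]; rfl)

/-- Nothing outside Sz(8) centralises an element of order 7 or 13. -/
theorem right_eq_one_of_commute (x : SzGal) (y : SzEight) (hy : orderOf y = 7 ∨ orderOf y = 13)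
    (hc : Commute x (SemidirectProduct.inl y)) : x.right = 1 := by
  by_contra hne
  have h : x.left * galAct x.right y = y * x.left := by
    have := congrArg SemidirectProduct.left hc.eq
    simpa [SemidirectProduct.mul_left] using this
  have hk : galAct x.right = frobSz ∨ galAct x.right = frobSz * frobSz := by
    have hv : x.right.toAdd.val = 1 ∨ x.right.toAdd.val = 2 := by
      have h1 := ZMod.val_lt x.right.toAdd
      have h0 : x.right.toAdd.val ≠ 0 := fun e => hne (Multiplicative.toAdd.injective ((ZMod.val_eq_zero _).1 e))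
      omega
    rcases hv with e | e
    · exact Or.inl (by show frobSz ^ _ = _; rw [e, pow_one])
    · exact Or.inr (by show frobSz ^ _ = _; rw [e, pow_two])
  have ht : (((galAct x.right y : SzEight) : GL (Fin 4) F8) : Matrix (Fin 4) (Fin 4) F8).trace =
      ((y : GL (Fin 4) F8) : Matrix (Fin 4) (Fin 4) F8).trace := by
    rw [show galAct x.right y = x.left⁻¹ * y * x.left⁻¹⁻¹ by rw [inv_inv, mul_assoc, ← h, inv_mul_cancel_left]]
    exact trace_conj _ _
  have hfix := trivial_of_frob_fixed ((y : GL (Fin 4) F8) : Matrix (Fin 4) (Fin 4) F8).trace (by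
    have hmap : ∀ g : GL (Fin 4) F8, (frobGL g : Matrix (Fin 4) (Fin 4) F8).trace =
        frob (g : Matrix (Fin 4) (Fin 4) F8).trace := fun g => by
      rw [frobGL_val]; simp [Matrix.trace, map_sum]
    rcases hk with e | e <;> rw [e] at ht
    · left; rwa [frobSz_coe, hmap] at ht
    · right; rwa [MulAut.mul_apply, frobSz_coe, frobSz_coe, hmap, hmap] at ht)
  rcases hfix with e | e
  · exact (trace_ne y hy).1 e
  · exact (trace_ne y hy).2 e

theorem prime_cases {p : ℕ} (hp : p.Prime) (h : p ∣ 87360) : p = 2 ∨ p = 3 ∨ p = 5 ∨ p = 7 ∨ p = 13 := by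
  rw [show (87360 : ℕ) = 2 ^ 6 * (3 * (5 * (7 * 13))) by norm_num] at h
  rcases hp.dvd_mul.1 h with h | h
  · exact Or.inl ((Nat.prime_dvd_prime_iff_eq hp Nat.prime_two).1 (hp.dvd_of_dvd_pow h))
  rcases hp.dvd_mul.1 h with h | h
  · exact Or.inr (Or.inl ((Nat.prime_dvd_prime_iff_eq hp Nat.prime_three).1 h))
  rcases hp.dvd_mul.1 h with h | h
  · exact Or.inr (Or.inr (Or.inl ((Nat.prime_dvd_prime_iff_eq hp Nat.prime_five).1 h)))
  rcases hp.dvd_mul.1 h with h | h
  · exact Or.inr (Or.inr (Or.inr (Or.inl ((Nat.prime_dvd_prime_iff_eq hp (by norm_num)).1 h))))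
  · exact Or.inr (Or.inr (Or.inr (Or.inr ((Nat.prime_dvd_prime_iff_eq hp (by norm_num)).1 h))))

theorem no_pair_in_sz {p q : ℕ} (hp : p.Prime) (hq : q.Prime) (hpq : p ≠ q) (g : SzEight)
    (hg : orderOf g = p * q) : False := by
  rcases orderOf_szEight g with h | h | h | h
  · rw [hg] at h
    have h2 : ∀ r : ℕ, r.Prime → r ∣ 4 → r = 2 := fun r hr hd =>
      (Nat.prime_dvd_prime_iff_eq hr Nat.prime_two).1 (hr.dvd_of_dvd_pow (show r ∣ 2 ^ 2 from hd))
    exact hpq ((h2 p hp ((dvd_mul_right p q).trans h)).trans (h2 q hq ((dvd_mul_left q p).trans h)).symm)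
  all_goals
    rw [hg] at h
    have hd : p ∣ _ := h ▸ dvd_mul_right p q
    rcases (Nat.dvd_prime (by norm_num)).1 hd with e | e
    · exact hp.one_lt.ne' e
    · subst e
      have := hq.one_lt
      omega

theorem three_cases {q : ℕ} (hq : q.Prime) (hq3 : q ≠ 3) (x : SzGal) (hx : orderOf x = 3 * q) :
    q = 2 ∨ q = 5 := by
  have hqd : q ∣ 87360 := card_szGal ▸ (dvd_mul_left q 3).trans (hx ▸ orderOf_dvd_natCard x)
  rcases prime_cases hq hqd with e | e | e | e | e
  · exact Or.inl e
  · exact absurd e hq3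
  · exact Or.inr e
  all_goals
    exfalso
    have hr3 : (x ^ 3).right = 1 := by
      rw [show (x ^ 3).right = x.right ^ 3 from map_pow (SemidirectProduct.rightHom : SzGal →* _) x 3]
      exact orderOf_dvd_iff_pow_eq_one.1 (by simpa using orderOf_dvd_natCard x.right)
    have hx3 : x ^ 3 = SemidirectProduct.inl (x ^ 3).left := SemidirectProduct.ext rfl hr3
    have hord : orderOf (x ^ 3).left = q := by
      rw [← orderOf_injective (SemidirectProduct.inl : SzEight →* SzGal) SemidirectProduct.inl_injective, ← hx3,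
        orderOf_pow' x (by norm_num), hx, Nat.gcd_eq_right (dvd_mul_right 3 q), Nat.mul_div_cancel_left q (by norm_num)]
    have hright := right_eq_one_of_commute x (x ^ 3).left (by rw [hord]; tauto)
      (hx3 ▸ Commute.self_pow x 3)
    have hx1 : x = SemidirectProduct.inl x.left := SemidirectProduct.ext rfl hright
    rw [hx1, orderOf_injective _ SemidirectProduct.inl_injective] at hx
    exact no_pair_in_sz Nat.prime_three hq (Ne.symm hq3) _ hx

/-- The prime graph of the extension. -/
theorem pair_cases {p q : ℕ} (hp : p.Prime) (hq : q.Prime) (hpq : p ≠ q) (x : SzGal)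
    (hx : orderOf x = p * q) : (p = 3 ∧ (q = 2 ∨ q = 5)) ∨ (q = 3 ∧ (p = 2 ∨ p = 5)) := by
  by_cases hp3 : p = 3
  · subst hp3
    exact Or.inl ⟨rfl, three_cases hq (Ne.symm hpq) x hx⟩
  by_cases hq3 : q = 3
  · subst hq3
    exact Or.inr ⟨rfl, three_cases hp hp3 x (by rw [hx, mul_comm])⟩
  exfalso
  have hr : x.right = 1 := by
    rw [← orderOf_eq_one_iff]
    have h1 : orderOf x.right ∣ p * q := hx ▸ orderOf_map_dvd (SemidirectProduct.rightHom : SzGal →* _) x
    have h2 : orderOf x.right ∣ 3 := by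
      have := orderOf_dvd_natCard x.right
      simpa using this
    exact Nat.eq_one_of_dvd_coprimes (Nat.Coprime.mul_left ((Nat.coprime_primes hp Nat.prime_three).2 hp3)
      ((Nat.coprime_primes hq Nat.prime_three).2 hq3)) h1 h2
  have hx1 : x = SemidirectProduct.inl x.left := SemidirectProduct.ext rfl hr
  rw [hx1, orderOf_injective _ SemidirectProduct.inl_injective] at hx
  exact no_pair_in_sz hp hq hpq _ hx

end CfsgLib.Recognition.SzGraph
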