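import Mathlib
import Cfsg.Agent.Lib.Recog.Isospectral
import Cfsg.Agent.Lib.Recognition.SzGraph.Extension

/-!
The tensor module of Sz(8) extended by field automorphisms, and the resulting prime graph.
-/

open scoped MatrixGroups Matrix

namespace CfsgLib.Recognition.SzGraph

open CfsgLib.SuzukiGroup Matrix

/-- The module of dimension sixteen. -/
abbrev V16 := Matrix (Fin 4) (Fin 4) F8

/-- `X ↦ g X (g^(2))ᵀ`. -/
def twistAct (g : GL (Fin 4) F8) (X : V16) : V16 :=
  (g : V16) * X * ((frobGL g : GL (Fin 4) F8) : V16)ᵀ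

theorem twistAct_mul (g h : GL (Fin 4) F8) (X : V16) : twistAct (g * h) X = twistAct g (twistAct h X) := by
  simp [twistAct, map_mul, Matrix.transpose_mul, Matrix.mul_assoc]

theorem twistAct_one (X : V16) : twistAct 1 X = X := by
  simp [twistAct]

theorem twistAct_add (g : GL (Fin 4) F8) (X Y : V16) : twistAct g (X + Y) = twistAct g X + twistAct g Y := by
  simp [twistAct, Matrix.mul_add, Matrix.add_mul]

theorem twistAct_frob (g : GL (Fin 4) F8) (X : V16) :
    twistAct (frobGL g) (X.map frob) = (twistAct g X).map frob := by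
  simp only [twistAct, frobGL_val, Matrix.map_mul, Matrix.transpose_map]

/-- Entrywise Frobenius powers. -/
def frobPow (n : ℕ) (X : V16) : V16 := (fun Y : V16 => Y.map frob)^[n] X

theorem frobPow_succ (n : ℕ) (X : V16) : frobPow (n + 1) X = (frobPow n X).map frob :=
  Function.iterate_succ_apply' _ _ _

theorem frobPow_add (n : ℕ) (X Y : V16) : frobPow n (X + Y) = frobPow n X + frobPow n Y := by
  induction n with
  | zero => rfl
  | succ n ih => rw [frobPow_succ, frobPow_succ, frobPow_succ, ih]; exact Matrix.map_add _ (map_add frob) _ _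

theorem frobPow_three (X : V16) : frobPow 3 X = X :=
  Matrix.ext fun _ _ => frob_three _

theorem frobPow_mod (n : ℕ) (X : V16) : frobPow n X = frobPow (n % 3) X := by
  conv_lhs => rw [← Nat.mod_add_div n 3]
  induction n / 3 with
  | zero => simp
  | succ k ih =>
    rw [Nat.mul_succ, ← add_assoc]
    show (fun Y : V16 => Y.map frob)^[_] X = _
    rw [Function.iterate_add_apply]
    show frobPow _ (frobPow 3 X) = _
    rw [frobPow_three, ih]

theorem twistAct_frobPow (n : ℕ) (g : SzEight) (X : V16) :
    twistAct (((frobSz ^ n) g : SzEight) : GL (Fin 4) F8) (frobPow n X) = frobPow n (twistAct g X) := by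
  induction n with
  | zero => rfl
  | succ n ih =>
    rw [frobPow_succ, frobPow_succ, pow_succ', MulAut.mul_apply, frobSz_coe, twistAct_frob, ih]

/-- The action of an element of the extension. -/
def semiAct (x : SzGal) (X : V16) : V16 :=
  twistAct ((x.left : SzEight) : GL (Fin 4) F8) (frobPow x.right.toAdd.val X)

theorem semiAct_mul (x y : SzGal) (X : V16) : semiAct (x * y) X = semiAct x (semiAct y X) := by
  simp only [semiAct, SemidirectProduct.mul_left, SemidirectProduct.mul_right, Subgroup.coe_mul, toAdd_mul]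
  rw [twistAct_mul, ← twistAct_frobPow]
  congr 1
  show twistAct _ _ = twistAct _ _
  congr 1
  rw [ZMod.val_add, ← frobPow_mod]
  exact Function.iterate_add_apply _ _ _ _

theorem semiAct_one (X : V16) : semiAct 1 X = X := by
  simp [semiAct, frobPow, twistAct_one]

theorem semiAct_add (x : SzGal) (X Y : V16) : semiAct x (X + Y) = semiAct x X + semiAct x Y := by
  simp [semiAct, frobPow_add, twistAct_add]

/-- The action by automorphisms. -/
def actMod : SzGal →* MulAut (Multiplicative V16) where
  toFun x :=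
    { toFun := fun v => Multiplicative.ofAdd (semiAct x v.toAdd)
      invFun := fun v => Multiplicative.ofAdd (semiAct x⁻¹ v.toAdd)
      left_inv := fun v => by simp [← semiAct_mul, semiAct_one]
      right_inv := fun v => by simp [← semiAct_mul, semiAct_one]
      map_mul' := fun v w => by simp [semiAct_add] }
  map_one' := MulEquiv.ext fun v => by simp [semiAct_one]
  map_mul' x y := MulEquiv.ext fun v => by simp [semiAct_mul]

/-- The group with the wanted prime graph. -/
abbrev HGraph := Multiplicative V16 ⋊[actMod] SzGal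

instance : Finite HGraph := Finite.of_equiv _ (SemidirectProduct.equivProd (φ := actMod)).symm

/-- Its normal 2-subgroup. -/
def kerMod : Subgroup HGraph := (SemidirectProduct.rightHom : HGraph →* SzGal).ker

instance : kerMod.Normal := MonoidHom.normal_ker _

theorem add_self_V16 (X : V16) : X + X = 0 := by
  refine Matrix.ext fun i j => ?_
  show X i j + X i j = 0
  have h : ∀ a : Fin 8, (⟨a⟩ : F8) + ⟨a⟩ = 0 := by decide +kernel
  exact h (X i j).v

theorem kerMod_exp : ∀ x ∈ kerMod, x ^ 2 = 1 := by
  intro x hx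
  have hx' : x = SemidirectProduct.inl x.left := SemidirectProduct.ext rfl (hx : x.right = 1)
  rw [hx', ← map_pow, show x.left ^ 2 = 1 from by
    rw [pow_two]; exact Multiplicative.toAdd.injective (add_self_V16 _), map_one]

theorem kerMod_ne_bot : kerMod ≠ ⊥ := by
  intro h
  have hm : (SemidirectProduct.inl (Multiplicative.ofAdd fiveFix) : HGraph) ∈ kerMod :=
    SemidirectProduct.rightHom_inl _
  rw [h, Subgroup.mem_bot, ← map_one (SemidirectProduct.inl : Multiplicative V16 →* HGraph)] at hm
  exact five_fix.1 (congrArg Multiplicative.toAdd (SemidirectProduct.inl_injective hm))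

theorem twistMat_apply (A X : V16) :
    twistMat A *ᵥ (fun p : Fin 4 × Fin 4 => X p.1 p.2) =
      fun p : Fin 4 × Fin 4 => (A * X * (A.map frob)ᵀ) p.1 p.2 := by
  funext p
  simp only [twistMat, Matrix.mulVec, dotProduct, Matrix.of_apply, Fintype.sum_prod_type, Fin.sum_univ_four,
    Matrix.mul_apply, Matrix.transpose_apply, Matrix.map_apply, frob_apply]
  ring

/-- Elements of order thirteen have no fixed vector. -/
theorem fpf_thirteen (g : SzEight) (hg : orderOf g = 13) (X : V16) (hX : twistAct (g : GL (Fin 4) F8) X = X) :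
    X = 0 := by
  have hp : Nat.Prime 13 := by norm_num
  obtain ⟨u, n, hn, hug⟩ := exists_conj_pow hp (card_szEight ▸ factorization_thirteen) hg orderOf_thirteen
  -- `thirteen` is a conjugate of a power of `g`
  set Y := twistAct (u : GL (Fin 4) F8) X with hY
  have hpow : twistAct ((g ^ (n : ℕ) : SzEight) : GL (Fin 4) F8) X = X := by
    clear hug hn
    induction (n : ℕ) with
    | zero => exact twistAct_one X
    | succ k ih => rw [pow_succ, Subgroup.coe_mul, twistAct_mul, hX, ih]
  have hfix : twistAct ((thirteen : SzEight) : GL (Fin 4) F8) Y = Y := by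
    rw [hug, hY, ← twistAct_mul, ← Subgroup.coe_mul, inv_mul_cancel_right, Subgroup.coe_mul, twistAct_mul, hpow]
  have h0 : Y = 0 := by
    have hv : twistMat (thirteenMat : V16) *ᵥ (fun p : Fin 4 × Fin 4 => Y p.1 p.2) =
        fun p : Fin 4 × Fin 4 => Y p.1 p.2 := by
      rw [twistMat_apply]
      funext p
      exact congrFun (congrFun hfix p.1) p.2
    have hz : (fun p : Fin 4 × Fin 4 => Y p.1 p.2) = 0 := by
      rw [← Matrix.one_mulVec (fun p : Fin 4 × Fin 4 => Y p.1 p.2), ← invThirteen_cert, ← Matrix.mulVec_mulVec,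
        Matrix.sub_mulVec, hv, Matrix.one_mulVec, sub_self, Matrix.mulVec_zero]
    exact Matrix.ext fun i j => congrFun hz (i, j)
  have h1 := congrArg (twistAct ((u⁻¹ : SzEight) : GL (Fin 4) F8)) h0
  rw [hY, ← twistAct_mul, ← Subgroup.coe_mul, inv_mul_cancel] at h1
  simpa [twistAct] using h1

theorem fixed_of_pow (x : HGraph) {m : ℕ} (h : (x ^ m).right = 1) :
    semiAct x.right (x ^ m).left.toAdd = (x ^ m).left.toAdd := by
  have hc : x * x ^ m = x ^ m * x := (Commute.self_pow x m).eq
  have h1 := congrArg (fun y : HGraph => y.left.toAdd) hc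
  simp only [SemidirectProduct.mul_left, h, map_one, MulAut.one_apply, toAdd_mul] at h1
  have h2 : x.left.toAdd + semiAct x.right (x ^ m).left.toAdd = x.left.toAdd + (x ^ m).left.toAdd := by
    rw [add_comm x.left.toAdd (x ^ m).left.toAdd]; exact h1
  exact add_left_cancel h2

theorem orderOf_inl_inr (X : V16) (hX : X ≠ 0) (y : SzGal) (hfix : semiAct y X = X) (q : ℕ)
    (hy : orderOf y = q) (hq : Nat.Coprime 2 q) :
    orderOf ((SemidirectProduct.inl (Multiplicative.ofAdd X) * SemidirectProduct.inr y : HGraph)) = 2 * q := by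
  haveI : Fact (Nat.Prime 2) := ⟨Nat.prime_two⟩
  have hc : Commute (SemidirectProduct.inl (Multiplicative.ofAdd X) : HGraph) (SemidirectProduct.inr y) := by
    refine SemidirectProduct.ext ?_ (by simp)
    simp only [SemidirectProduct.mul_left, SemidirectProduct.left_inl, SemidirectProduct.left_inr,
      SemidirectProduct.right_inl, SemidirectProduct.right_inr, map_one, MulAut.one_apply, mul_one, one_mul]
    exact (congrArg Multiplicative.ofAdd hfix).symm
  have h2 : orderOf (SemidirectProduct.inl (Multiplicative.ofAdd X) : HGraph) = 2 := by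
    rw [orderOf_injective _ SemidirectProduct.inl_injective]
    refine orderOf_eq_prime ?_ fun e => hX (congrArg Multiplicative.toAdd e)
    rw [pow_two]
    exact Multiplicative.toAdd.injective (add_self_V16 X)
  rw [hc.orderOf_mul_eq_mul_orderOf_of_coprime, h2, orderOf_injective _ SemidirectProduct.inr_injective, hy]
  rwa [h2, orderOf_injective _ SemidirectProduct.inr_injective, hy]

/-- The generator of the field automorphisms. -/
def galGen : SzGal := SemidirectProduct.inr (Multiplicative.ofAdd 1)

theorem orderOf_galGen : orderOf galGen = 3 := by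
  haveI : Fact (Nat.Prime 3) := ⟨Nat.prime_three⟩
  rw [galGen, orderOf_injective _ SemidirectProduct.inr_injective]
  exact orderOf_eq_prime (by decide) (by decide)

theorem exists_order_six : ∃ x : HGraph, orderOf x = 2 * 3 := by
  refine ⟨_, orderOf_inl_inr (1 : V16) one_ne_zero galGen ?_ 3 orderOf_galGen (by norm_num)⟩
  show twistAct ((1 : SzEight) : GL (Fin 4) F8) (frobPow 1 1) = 1
  rw [frobPow_succ, Subgroup.coe_one, twistAct_one]
  exact Matrix.map_one _ (map_zero frob) (map_one frob)

theorem exists_order_ten : ∃ x : HGraph, orderOf x = 2 * 5 := by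
  refine ⟨_, orderOf_inl_inr fiveFix five_fix.1 (SemidirectProduct.inl five) ?_ 5
    (by rw [orderOf_injective _ SemidirectProduct.inl_injective, orderOf_five]) (by norm_num)⟩
  exact five_fix.2

theorem exists_order_fourteen : ∃ x : HGraph, orderOf x = 2 * 7 := by
  refine ⟨_, orderOf_inl_inr sevenFix seven_fix.1 (SemidirectProduct.inl seven) ?_ 7
    (by rw [orderOf_injective _ SemidirectProduct.inl_injective, orderOf_seven]) (by norm_num)⟩
  exact seven_fix.2

theorem exists_order_fifteen : ∃ x : HGraph, orderOf x = 3 * 5 := by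
  refine ⟨SemidirectProduct.inr (SemidirectProduct.inl five * galGen), ?_⟩
  have hc : Commute galGen (SemidirectProduct.inl five : SzGal) := by
    have hfive : frobSz five = five := Subtype.ext (Units.ext five_real)
    refine SemidirectProduct.ext ?_ (by simp [galGen])
    have hg : galAct (Multiplicative.ofAdd 1) five = five := by
      show (frobSz ^ (1 : ℕ)) five = five
      rw [pow_one, hfive]
    simp [galGen, hg]
  rw [orderOf_injective _ SemidirectProduct.inr_injective, ← hc.eq,
    hc.orderOf_mul_eq_mul_orderOf_of_coprime, orderOf_galGen,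
    orderOf_injective _ SemidirectProduct.inl_injective, orderOf_five]
  rw [orderOf_galGen, orderOf_injective _ SemidirectProduct.inl_injective, orderOf_five]
  norm_num

theorem no_twenty_six (x : HGraph) : orderOf x ≠ 2 * 13 := by
  intro hx
  set m := orderOf x.right with hm
  have hright : (x ^ m).right = 1 :=
    (map_pow (SemidirectProduct.rightHom : HGraph →* SzGal) x m).trans (pow_orderOf_eq_one _)
  have h2 : (x ^ m) ^ 2 = 1 := kerMod_exp _ hright
  rw [← pow_mul] at h2
  have hdvd : 2 * 13 ∣ m * 2 := hx ▸ orderOf_dvd_of_pow_eq_one h2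
  have hmd : m ∣ 2 * 13 := hx ▸ orderOf_map_dvd (SemidirectProduct.rightHom : HGraph →* SzGal) x
  have hle : m ≤ 26 := Nat.le_of_dvd (by norm_num) hmd
  have hcases : m = 13 ∨ m = 26 := by interval_cases m <;> omega
  rcases hcases with h13 | h26
  · have hr1 : x.right.right = 1 := by
      have h1 : orderOf x.right.right ∣ 13 :=
        h13 ▸ hm ▸ orderOf_map_dvd (SemidirectProduct.rightHom : SzGal →* _) x.right
      have h3 : orderOf x.right.right ∣ 3 := by simpa using orderOf_dvd_natCard x.right.right
      rw [← orderOf_eq_one_iff]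
      exact Nat.eq_one_of_dvd_coprimes (by norm_num) h1 h3
    have hx1 : x.right = SemidirectProduct.inl x.right.left := SemidirectProduct.ext rfl hr1
    have hord : orderOf x.right.left = 13 := by
      rw [← orderOf_injective (SemidirectProduct.inl : SzEight →* SzGal) SemidirectProduct.inl_injective, ← hx1, ← hm, h13]
    have hf := fixed_of_pow x hright
    rw [hx1] at hf
    have hv : (x ^ m).left.toAdd = 0 := fpf_thirteen _ hord _ hf
    have h1 : x ^ m = 1 := SemidirectProduct.ext (Multiplicative.toAdd.injective hv) hright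
    have hd := orderOf_dvd_of_pow_eq_one h1
    rw [hx, h13] at hd
    norm_num at hd
  · rcases pair_cases Nat.prime_two (by norm_num : Nat.Prime 13) (by norm_num) x.right (hm ▸ h26) with h | h <;> omega

/-- The joined pairs. -/
def Edge (p q : ℕ) : Prop :=
  (p = 2 ∧ (q = 3 ∨ q = 5 ∨ q = 7)) ∨ (q = 2 ∧ (p = 3 ∨ p = 5 ∨ p = 7)) ∨ (p = 3 ∧ q = 5) ∨ (p = 5 ∧ q = 3)

theorem primes_HGraph {p : ℕ} (hp : p.Prime) :
    p ∣ Nat.card HGraph ↔ p = 2 ∨ p = 3 ∨ p = 5 ∨ p = 7 ∨ p = 13 := by
  have hc : Nat.card HGraph = 2 ^ 48 * 87360 := by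
    rw [SemidirectProduct.card, card_szGal]
    congr 1
    simp [Nat.card_eq_fintype_card, F8.card_eq, Matrix]
  rw [hc]
  refine ⟨fun h => ?_, fun h => ?_⟩
  · rcases hp.dvd_mul.1 h with h | h
    · exact Or.inl ((Nat.prime_dvd_prime_iff_eq hp Nat.prime_two).1 (hp.dvd_of_dvd_pow h))
    · exact prime_cases hp h
  · rcases h with rfl | rfl | rfl | rfl | rfl <;> exact dvd_mul_of_dvd_right (by norm_num) _

theorem edge_HGraph {p q : ℕ} (hp : p.Prime) (hq : q.Prime) (hpq : p ≠ q) :
    (∃ x : HGraph, orderOf x = p * q) ↔ Edge p q := by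
  constructor
  · rintro ⟨x, hx⟩
    have two_case : ∀ {r : ℕ}, r.Prime → r ≠ 2 → orderOf x = 2 * r → r = 3 ∨ r = 5 ∨ r = 7 := by
      intro r hr hr2 h
      have hd : r ∣ Nat.card HGraph := (dvd_mul_left r 2).trans (h ▸ orderOf_dvd_natCard x)
      rcases (primes_HGraph hr).1 hd with e | e | e | e | e
      · exact absurd e hr2
      · exact Or.inl e
      · exact Or.inr (Or.inl e)
      · exact Or.inr (Or.inr e)
      · exact absurd (e ▸ h) (no_twenty_six x)
    by_cases hp2 : p = 2
    · subst hp2; exact Or.inl ⟨rfl, two_case hq (Ne.symm hpq) hx⟩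
    by_cases hq2 : q = 2
    · subst hq2; exact Or.inr (Or.inl ⟨rfl, two_case hp hp2 (by rw [hx, mul_comm])⟩)
    have hd : p * q ∣ orderOf x.right * 2 := by
      rw [← hx]
      refine orderOf_dvd_of_pow_eq_one ?_
      rw [pow_mul]
      refine kerMod_exp _ ?_
      exact (map_pow (SemidirectProduct.rightHom : HGraph →* SzGal) x _).trans (pow_orderOf_eq_one _)
    have hd' : p * q ∣ orderOf x.right :=
      (Nat.Coprime.mul_left ((Nat.coprime_primes hp Nat.prime_two).2 hp2)
        ((Nat.coprime_primes hq Nat.prime_two).2 hq2)).dvd_of_dvd_mul_right hd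
    have heq : orderOf x.right = p * q :=
      Nat.dvd_antisymm (hx ▸ orderOf_map_dvd (SemidirectProduct.rightHom : HGraph →* SzGal) x) hd'
    rcases pair_cases hp hq hpq x.right heq with ⟨rfl, h | h⟩ | ⟨rfl, h | h⟩
    · exact absurd h hq2
    · exact Or.inr (Or.inr (Or.inl ⟨rfl, h⟩))
    · exact absurd h hp2
    · exact Or.inr (Or.inr (Or.inr ⟨h, rfl⟩))
  · rintro (⟨rfl, rfl | rfl | rfl⟩ | ⟨rfl, rfl | rfl | rfl⟩ | ⟨rfl, rfl⟩ | ⟨rfl, rfl⟩)
    · exact exists_order_six
    · exact exists_order_ten
    · exact exists_order_fourteen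
    · rw [mul_comm]; exact exists_order_six
    · rw [mul_comm]; exact exists_order_ten
    · rw [mul_comm]; exact exists_order_fourteen
    · exact exists_order_fifteen
    · rw [mul_comm]; exact exists_order_fifteen

/-- Groups of unbounded order with this prime graph. -/
theorem exists_large (N : ℕ) :
    ∃ (H : Type) (_ : Group H) (_ : Finite H), N < Nat.card H ∧
      (∀ p : ℕ, p.Prime → (p ∣ Nat.card H ↔ p = 2 ∨ p = 3 ∨ p = 5 ∨ p = 7 ∨ p = 13)) ∧
      ∀ p q : ℕ, p.Prime → q.Prime → p ≠ q → ((∃ g : H, orderOf g = p * q) ↔ Edge p q) := by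
  obtain ⟨H, iG, iF, hN, hrange⟩ :=
    CfsgLib.Recog.exists_large_isospectral_of_exponent kerMod kerMod_ne_bot Nat.prime_two kerMod_exp N
  have hord : ∀ n, (∃ g : H, orderOf g = n) ↔ (∃ x : HGraph, orderOf x = n) := fun n =>
    Set.ext_iff.1 hrange n
  refine ⟨H, iG, inferInstance, by rwa [Nat.card_eq_fintype_card], fun p hp => ?_,
    fun p q hp hq hpq => (hord _).trans (edge_HGraph hp hq hpq)⟩
  haveI : Fact p.Prime := ⟨hp⟩
  rw [← primes_HGraph hp]
  refine ⟨fun h => ?_, fun h => ?_⟩
  · obtain ⟨x, hx⟩ := exists_prime_orderOf_dvd_card' p h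
    obtain ⟨g, hg⟩ := (hord p).1 ⟨x, hx⟩
    exact hg ▸ orderOf_dvd_natCard g
  · obtain ⟨x, hx⟩ := exists_prime_orderOf_dvd_card' p h
    obtain ⟨g, hg⟩ := (hord p).2 ⟨x, hx⟩
    exact hg ▸ orderOf_dvd_natCard g

end CfsgLib.Recognition.SzGraph
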