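import Mathlib
import Cfsg.Agent.Lib.Sp.Card

/-!
The prime graph of PSp(6,3).
-/

namespace CfsgLib.Recognition.SzGraph.Sp

open Matrix

/-- The index set. -/
abbrev I6 := Fin 3 ⊕ Fin 3

/-- Reindexing. -/
def toSum (A : Matrix (Fin 6) (Fin 6) (ZMod 3)) : Matrix I6 I6 (ZMod 3) :=
  A.submatrix finSumFinEquiv finSumFinEquiv

/-- Symplecticity, decidably. -/
def IsSp (A : Matrix I6 I6 (ZMod 3)) : Prop := A * Matrix.J (Fin 3) (ZMod 3) * Aᵀ = Matrix.J (Fin 3) (ZMod 3)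

instance : DecidablePred IsSp := fun A => by unfold IsSp; infer_instance

/-- A witness. -/
def six : Matrix I6 I6 (ZMod 3) := toSum !![1, 0, 0, 2, 0, 1; 2, 0, 0, 1, 2, 2; 1, 0, 2, 1, 0, 1; 1, 1, 0, 0, 1, 2; 1, 1, 0, 2, 2, 1; 0, 0, 0, 0, 0, 2]

theorem six_sp : IsSp six := by decide +kernel

/-- A witness. -/
def ten : Matrix I6 I6 (ZMod 3) := toSum !![2, 0, 0, 2, 2, 2; 2, 1, 0, 0, 1, 0; 0, 2, 1, 0, 2, 2; 1, 2, 2, 1, 0, 2; 2, 1, 2, 2, 1, 1; 2, 0, 2, 1, 1, 0]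

theorem ten_sp : IsSp ten := by decide +kernel

/-- A witness. -/
def fourteen : Matrix I6 I6 (ZMod 3) := toSum !![0, 1, 0, 1, 0, 0; 2, 2, 1, 1, 2, 1; 2, 1, 0, 2, 2, 2; 2, 0, 2, 1, 0, 2; 0, 1, 2, 0, 0, 2; 0, 0, 1, 0, 0, 1]

theorem fourteen_sp : IsSp fourteen := by decide +kernel

/-- A witness. -/
def fifteen : Matrix I6 I6 (ZMod 3) := toSum !![1, 0, 0, 2, 1, 2; 2, 0, 0, 1, 0, 1; 2, 0, 1, 0, 2, 2; 1, 2, 1, 1, 2, 1; 0, 2, 1, 1, 0, 1; 0, 0, 0, 0, 1, 1]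

theorem fifteen_sp : IsSp fifteen := by decide +kernel

/-- A witness. -/
def seven : Matrix I6 I6 (ZMod 3) := toSum !![2, 0, 2, 1, 1, 1; 0, 1, 0, 0, 0, 2; 1, 0, 2, 2, 1, 1; 0, 1, 2, 1, 1, 1; 1, 0, 0, 2, 1, 0; 1, 2, 1, 1, 2, 1]

theorem seven_sp : IsSp seven := by decide +kernel

/-- A witness. -/
def thirteen : Matrix I6 I6 (ZMod 3) := toSum !![0, 1, 0, 2, 1, 0; 2, 2, 0, 0, 0, 2; 1, 1, 2, 2, 0, 2; 0, 0, 1, 0, 1, 2; 2, 1, 0, 0, 2, 1; 2, 1, 1, 2, 2, 0]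

theorem thirteen_sp : IsSp thirteen := by decide +kernel

/-- The inverse of the cyclic basis of `seven`. -/
def sevenKi : Matrix I6 I6 (ZMod 3) := toSum !![1, 0, 0, 1, 0, 1; 0, 1, 2, 1, 0, 2; 0, 0, 1, 1, 2, 0; 0, 2, 2, 2, 0, 1; 0, 0, 0, 0, 2, 1; 0, 0, 1, 0, 2, 0]

/-- The inverse of the cyclic basis of `thirteen`. -/
def thirteenKi : Matrix I6 I6 (ZMod 3) := toSum !![1, 0, 0, 2, 0, 0; 0, 2, 1, 1, 1, 0; 0, 2, 1, 0, 2, 0; 0, 0, 2, 1, 2, 0; 0, 1, 2, 0, 2, 2; 0, 2, 1, 1, 0, 2]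

end CfsgLib.Recognition.SzGraph.Sp
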