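import Mathlib
import Cfsg.Prelude.Def_Classical
import Cfsg.Agent.Lib.Sp.Card
import Cfsg.Agent.Lib.Recognition.SzGraph.SpWitness
import Cfsg.Agent.Lib.Recognition.SzGraph.Module

/-!
The prime graph of PSp(6,3) is that of the extension of Sz(8).
-/

namespace CfsgLib.Recognition.SzGraph.Sp

open Matrix

/-- The first basis vector. -/
def e0 : I6 → ZMod 3 := Pi.single (Sum.inl 0) 1

/-- The cyclic basis of `y`. -/
def krylov (y : Matrix I6 I6 (ZMod 3)) : Matrix I6 I6 (ZMod 3) :=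
  Matrix.of fun i j => ((y ^ (finSumFinEquiv j).val) *ᵥ e0) i

/-- A polynomial in `y`. -/
def poly (y : Matrix I6 I6 (ZMod 3)) (a b c d e f : ZMod 3) : Matrix I6 I6 (ZMod 3) :=
  a • 1 + b • y + c • y ^ 2 + d • y ^ 3 + e • y ^ 4 + f • y ^ 5

theorem seven_krylov : krylov seven * sevenKi = 1 := by decide +kernel

theorem thirteen_krylov : krylov thirteen * thirteenKi = 1 := by decide +kernel

theorem thirteen_cent : ∀ a b c d e f : ZMod 3, IsSp (poly thirteen a b c d e f) →
    poly thirteen a b c d e f ^ 13 = 1 ∨ poly thirteen a b c d e f ^ 13 = -1 := by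
  decide +kernel

theorem seven_cent : ∀ a b c d e f : ZMod 3, IsSp (poly seven a b c d e f) →
    poly seven a b c d e f ^ 28 = 1 := by
  decide +kernel

theorem eq_poly_of_commute {y Ki z : Matrix I6 I6 (ZMod 3)} (hK : krylov y * Ki = 1) (hc : Commute z y) :
    ∃ a b c d e f, z = poly y a b c d e f := by
  set v := Ki *ᵥ (z *ᵥ e0) with hv
  set w := poly y (v (Sum.inl 0)) (v (Sum.inl 1)) (v (Sum.inl 2)) (v (Sum.inr 0)) (v (Sum.inr 1))
    (v (Sum.inr 2)) with hw
  refine ⟨_, _, _, _, _, _, (?_ : z = w)⟩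
  have hwc : Commute w y := by
    rw [hw, poly]
    refine ((((((Commute.one_left y).smul_left _).add_left ((Commute.refl y).smul_left _)).add_left
      ((Commute.pow_self y 2).smul_left _)).add_left ((Commute.pow_self y 3).smul_left _)).add_left
      ((Commute.pow_self y 4).smul_left _)).add_left ((Commute.pow_self y 5).smul_left _)
  have h0 : w *ᵥ e0 = z *ᵥ e0 := by
    rw [← Matrix.one_mulVec (z *ᵥ e0), ← hK, ← Matrix.mulVec_mulVec, ← hv]
    funext i
    simp only [hw, poly, krylov, Matrix.add_mulVec, Matrix.smul_mulVec, Pi.add_apply, Pi.smul_apply,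
      smul_eq_mul]
    conv_rhs => rw [Matrix.mulVec, dotProduct, Fintype.sum_sum_type, Fin.sum_univ_three, Fin.sum_univ_three]
    simp only [show ((finSumFinEquiv (Sum.inl 0 : I6) : Fin 6) : ℕ) = 0 from rfl,
      show ((finSumFinEquiv (Sum.inl 1 : I6) : Fin 6) : ℕ) = 1 from rfl,
      show ((finSumFinEquiv (Sum.inl 2 : I6) : Fin 6) : ℕ) = 2 from rfl,
      show ((finSumFinEquiv (Sum.inr 0 : I6) : Fin 6) : ℕ) = 3 from rfl,
      show ((finSumFinEquiv (Sum.inr 1 : I6) : Fin 6) : ℕ) = 4 from rfl,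
      show ((finSumFinEquiv (Sum.inr 2 : I6) : Fin 6) : ℕ) = 5 from rfl,
      Matrix.of_apply, pow_zero, pow_one, Matrix.one_mulVec]
    ring
  have hcol : z * krylov y = w * krylov y := by
    refine Matrix.ext fun i j => ?_
    have h : z *ᵥ ((y ^ (finSumFinEquiv j).val) *ᵥ e0) = w *ᵥ ((y ^ (finSumFinEquiv j).val) *ᵥ e0) := by
      rw [Matrix.mulVec_mulVec, Matrix.mulVec_mulVec, (hc.pow_right _).eq, (hwc.pow_right _).eq,
        ← Matrix.mulVec_mulVec, ← Matrix.mulVec_mulVec, h0]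
    exact congrFun h i
  calc z = z * (krylov y * Ki) := by rw [hK, mul_one]
    _ = w * (krylov y * Ki) := by rw [← mul_assoc, hcol, mul_assoc]
    _ = w := by rw [hK, mul_one]

/-- The group. -/
abbrev Sp6 := Matrix.symplecticGroup (Fin 3) (ZMod 3)

theorem isSp_coe (z : Sp6) : IsSp z.1 := SymplecticGroup.mem_iff.1 z.2

/-- An element from a witness. -/
def mkSp (A : Matrix I6 I6 (ZMod 3)) (h : IsSp A) : Sp6 := ⟨A, SymplecticGroup.mem_iff.2 h⟩

theorem card_Sp6 : Nat.card Sp6 = 9170703360 := by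
  rw [CfsgLib.Sp.card_symplecticGroup (q := 3) (ZMod.card 3)]
  norm_num [Finset.prod_range_succ]

/-- The projective group. -/
abbrev P6 := Cfsg.PSp 3 (ZMod 3)

/-- The projection. -/
abbrev proj : Sp6 →* P6 := QuotientGroup.mk' (Subgroup.center Sp6)

theorem proj_eq_one {z : Sp6} : proj z = 1 ↔ z.1 = 1 ∨ z.1 = -1 := by
  rw [QuotientGroup.mk'_apply, QuotientGroup.eq_one_iff, CfsgLib.Sp.mem_center_iff]

theorem orderOf_dvd_of_thirteen (g : P6) (h : 13 ∣ orderOf g) : orderOf g ∣ 13 := by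
  obtain ⟨z, rfl⟩ := QuotientGroup.mk'_surjective _ g
  have hz : 13 ∣ orderOf z := h.trans (orderOf_map_dvd proj z)
  have hpos : orderOf z ≠ 0 := (orderOf_pos z).ne'
  obtain ⟨k, hk⟩ := hz
  have hy : orderOf (z ^ k) = 13 := by
    rw [orderOf_pow_of_dvd (by rintro rfl; exact hpos (by rw [hk, mul_zero])) ⟨13, by rw [hk, mul_comm]⟩, hk,
      Nat.mul_div_cancel _ (Nat.pos_of_ne_zero (by rintro rfl; exact hpos (by rw [hk, mul_zero])))]
  have hy0 : orderOf (mkSp thirteen thirteen_sp) = 13 := by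
    haveI : Fact (Nat.Prime 13) := ⟨by norm_num⟩
    exact orderOf_eq_prime (Subtype.ext (by decide +kernel : thirteen ^ 13 = 1))
      (fun e => absurd (congrArg Subtype.val e) (by decide +kernel : thirteen ≠ 1))
  have hf : (Nat.card Sp6).factorization 13 = 1 := by
    rw [card_Sp6, show (9170703360 : ℕ) = 13 * 705438720 by norm_num,
      Nat.factorization_mul (by norm_num) (by norm_num), Finsupp.add_apply,
      Nat.Prime.factorization_self (by norm_num), Nat.factorization_eq_zero_of_not_dvd (by norm_num)]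
  obtain ⟨u, n, -, hu⟩ := exists_conj_pow (by norm_num : Nat.Prime 13) hf hy hy0
  have hc : Commute (u * z * u⁻¹) (mkSp thirteen thirteen_sp) := by
    rw [hu]
    exact (((Commute.refl z).pow_right k).pow_right n).map (MulAut.conj u).toMonoidHom
  obtain ⟨a, b, c, d, e, f, hw⟩ := eq_poly_of_commute thirteen_krylov
    (hc.map (Matrix.symplecticGroup (Fin 3) (ZMod 3)).subtype)
  have h13 := thirteen_cent a b c d e f (hw ▸ isSp_coe (u * z * u⁻¹))
  rw [← hw] at h13
  apply orderOf_dvd_of_pow_eq_one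
  have h1 : proj (u * z * u⁻¹) ^ 13 = 1 := by
    rw [← map_pow, proj_eq_one]
    exact h13
  rw [map_mul, map_mul, map_inv, conj_pow, mul_inv_eq_one, mul_eq_left] at h1
  exact h1

theorem orderOf_dvd_of_seven (g : P6) (h : 7 ∣ orderOf g) : orderOf g ∣ 28 := by
  obtain ⟨z, rfl⟩ := QuotientGroup.mk'_surjective _ g
  have hz : 7 ∣ orderOf z := h.trans (orderOf_map_dvd proj z)
  have hpos : orderOf z ≠ 0 := (orderOf_pos z).ne'
  obtain ⟨k, hk⟩ := hz
  have hy : orderOf (z ^ k) = 7 := by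
    rw [orderOf_pow_of_dvd (by rintro rfl; exact hpos (by rw [hk, mul_zero])) ⟨7, by rw [hk, mul_comm]⟩, hk,
      Nat.mul_div_cancel _ (Nat.pos_of_ne_zero (by rintro rfl; exact hpos (by rw [hk, mul_zero])))]
  have hy0 : orderOf (mkSp seven seven_sp) = 7 := by
    haveI : Fact (Nat.Prime 7) := ⟨by norm_num⟩
    exact orderOf_eq_prime (Subtype.ext (by decide +kernel : seven ^ 7 = 1))
      (fun e => absurd (congrArg Subtype.val e) (by decide +kernel : seven ≠ 1))
  have hf : (Nat.card Sp6).factorization 7 = 1 := by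
    rw [card_Sp6, show (9170703360 : ℕ) = 7 * 1310100480 by norm_num,
      Nat.factorization_mul (by norm_num) (by norm_num), Finsupp.add_apply,
      Nat.Prime.factorization_self (by norm_num), Nat.factorization_eq_zero_of_not_dvd (by norm_num)]
  obtain ⟨u, n, -, hu⟩ := exists_conj_pow (by norm_num : Nat.Prime 7) hf hy hy0
  have hc : Commute (u * z * u⁻¹) (mkSp seven seven_sp) := by
    rw [hu]
    exact (((Commute.refl z).pow_right k).pow_right n).map (MulAut.conj u).toMonoidHom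
  obtain ⟨a, b, c, d, e, f, hw⟩ := eq_poly_of_commute seven_krylov
    (hc.map (Matrix.symplecticGroup (Fin 3) (ZMod 3)).subtype)
  have h28 := seven_cent a b c d e f (hw ▸ isSp_coe (u * z * u⁻¹))
  rw [← hw] at h28
  apply orderOf_dvd_of_pow_eq_one
  have h1 : proj (u * z * u⁻¹) ^ 28 = 1 := by
    rw [← map_pow, proj_eq_one]
    exact Or.inl h28
  rw [map_mul, map_mul, map_inv, conj_pow, mul_inv_eq_one, mul_eq_left] at h1
  exact h1

theorem orderOf_proj {A : Matrix I6 I6 (ZMod 3)} (h : IsSp A) {p q : ℕ} (hp : p.Prime) (hq : q.Prime)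
    (h1 : A ^ (p * q) = 1 ∨ A ^ (p * q) = -1) (h2 : A ^ p ≠ 1 ∧ A ^ p ≠ -1) (h3 : A ^ q ≠ 1 ∧ A ^ q ≠ -1) :
    orderOf (proj (mkSp A h)) = p * q := by
  have key : ∀ n, proj (mkSp A h) ^ n = 1 ↔ A ^ n = 1 ∨ A ^ n = -1 := fun n => by
    rw [← map_pow, proj_eq_one]; rfl
  have hd : orderOf (proj (mkSp A h)) ∣ p * q := orderOf_dvd_of_pow_eq_one ((key _).2 h1)
  have hnp : ¬ orderOf (proj (mkSp A h)) ∣ p := fun hh =>
    ((key p).1 (orderOf_dvd_iff_pow_eq_one.1 hh)).elim h2.1 h2.2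
  have hnq : ¬ orderOf (proj (mkSp A h)) ∣ q := fun hh =>
    ((key q).1 (orderOf_dvd_iff_pow_eq_one.1 hh)).elim h3.1 h3.2
  generalize orderOf (proj (mkSp A h)) = m at *
  obtain ⟨a, b, ha, hb, rfl⟩ := Nat.dvd_mul.1 hd
  rcases (Nat.dvd_prime hp).1 ha with rfl | rfl
  · exact absurd (by rwa [one_mul]) hnq
  rcases (Nat.dvd_prime hq).1 hb with rfl | rfl
  · exact absurd (by rw [mul_one]) hnp
  · rfl

theorem exists_six : ∃ g : P6, orderOf g = 2 * 3 :=
  ⟨_, orderOf_proj six_sp Nat.prime_two Nat.prime_three (by decide +kernel) (by decide +kernel) (by decide +kernel)⟩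

theorem exists_ten : ∃ g : P6, orderOf g = 2 * 5 :=
  ⟨_, orderOf_proj ten_sp Nat.prime_two Nat.prime_five (by decide +kernel) (by decide +kernel) (by decide +kernel)⟩

theorem exists_fourteen : ∃ g : P6, orderOf g = 2 * 7 :=
  ⟨_, orderOf_proj fourteen_sp Nat.prime_two (by norm_num) (by decide +kernel) (by decide +kernel) (by decide +kernel)⟩

theorem exists_fifteen : ∃ g : P6, orderOf g = 3 * 5 :=
  ⟨_, orderOf_proj fifteen_sp Nat.prime_three Nat.prime_five (by decide +kernel) (by decide +kernel) (by decide +kernel)⟩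

theorem primes_P6 {p : ℕ} (hp : p.Prime) :
    p ∣ Nat.card P6 ↔ p = 2 ∨ p = 3 ∨ p = 5 ∨ p = 7 ∨ p = 13 := by
  have hc : Nat.card P6 = 4585351680 := by
    have h := CfsgLib.Sp.card_psp (F := ZMod 3) (q := 3) (m := 3) (ZMod.card 3) (by norm_num)
    rw [show Nat.gcd 2 (3 - 1) = 2 from rfl, show (Finset.range 3) = {0, 1, 2} from rfl] at h
    norm_num at h
    show Nat.card (Cfsg.PSp 3 (ZMod 3)) = 4585351680
    omega
  rw [hc]
  refine ⟨fun h => ?_, fun h => ?_⟩
  · rw [show (4585351680 : ℕ) = 2 ^ 9 * (3 ^ 9 * (5 * (7 * 13))) by norm_num] at h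
    rcases hp.dvd_mul.1 h with h | h
    · exact Or.inl ((Nat.prime_dvd_prime_iff_eq hp Nat.prime_two).1 (hp.dvd_of_dvd_pow h))
    rcases hp.dvd_mul.1 h with h | h
    · exact Or.inr (Or.inl ((Nat.prime_dvd_prime_iff_eq hp Nat.prime_three).1 (hp.dvd_of_dvd_pow h)))
    rcases hp.dvd_mul.1 h with h | h
    · exact Or.inr (Or.inr (Or.inl ((Nat.prime_dvd_prime_iff_eq hp Nat.prime_five).1 h)))
    rcases hp.dvd_mul.1 h with h | h
    · exact Or.inr (Or.inr (Or.inr (Or.inl ((Nat.prime_dvd_prime_iff_eq hp (by norm_num)).1 h))))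
    · exact Or.inr (Or.inr (Or.inr (Or.inr ((Nat.prime_dvd_prime_iff_eq hp (by norm_num)).1 h))))
  · rcases h with rfl | rfl | rfl | rfl | rfl <;> norm_num

theorem edge_P6 {p q : ℕ} (hp : p.Prime) (hq : q.Prime) (hpq : p ≠ q) :
    (∃ g : P6, orderOf g = p * q) ↔ Edge p q := by
  constructor
  · rintro ⟨g, hg⟩
    have hp' := (primes_P6 hp).1 ((dvd_mul_right p q).trans (hg ▸ orderOf_dvd_natCard g))
    have hq' := (primes_P6 hq).1 ((dvd_mul_left q p).trans (hg ▸ orderOf_dvd_natCard g))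
    have h13 : 13 ∣ p * q → p * q ∣ 13 := fun h => hg ▸ orderOf_dvd_of_thirteen g (hg ▸ h)
    have h7 : 7 ∣ p * q → p * q ∣ 28 := fun h => hg ▸ orderOf_dvd_of_seven g (hg ▸ h)
    rcases hp' with rfl | rfl | rfl | rfl | rfl <;> rcases hq' with rfl | rfl | rfl | rfl | rfl <;>
      first | (exact absurd rfl hpq) | (simp [Edge]; done) | (norm_num at h13; done) | (norm_num at h7; done)
  · rintro (⟨rfl, rfl | rfl | rfl⟩ | ⟨rfl, rfl | rfl | rfl⟩ | ⟨rfl, rfl⟩ | ⟨rfl, rfl⟩)
    · exact exists_six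
    · exact exists_ten
    · exact exists_fourteen
    · rw [mul_comm]; exact exists_six
    · rw [mul_comm]; exact exists_ten
    · rw [mul_comm]; exact exists_fourteen
    · exact exists_fifteen
    · rw [mul_comm]; exact exists_fifteen

end CfsgLib.Recognition.SzGraph.Sp
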